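import Groth.Agent.Lefpen.H711.PencilOpen
import Groth.Agent.EssDim.K995.P1Pts
import Groth.Agent.AlgGrp.K407.PicProd
import Groth.Agent.S7834
import Mathlib.AlgebraicGeometry.AlgClosed.Basic

/-!
# The complement of two closed points of a smooth proper curve of genus zero (K741)

* `K741.GmOpen.exists_gm`: the complement of two distinct closed points of a smooth proper curve of
  genus zero over an algebraically closed field is `Spec k[X, 1/X]`.
-/

set_option autoImplicit false
universe u
open CategoryTheory CategoryTheory.Limits AlgebraicGeometry TopologicalSpace Opposite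

namespace K741.GmOpen

open Groth.Agent Groth.Agent.Lefpen.H711.PencilOpen Groth.Agent.Lefpen.H723.P1Pt

section P1

variable (k : Type u) [Field k]

/-- The punctured line in the line. -/
noncomputable def loc : Spec (CommRingCat.of (Localization.Away (Polynomial.X : Polynomial k))) ⟶
    Spec (CommRingCat.of (Polynomial k)) :=
  Spec.map (CommRingCat.ofHom (algebraMap (Polynomial k) (Localization.Away (Polynomial.X : Polynomial k))))

instance : IsOpenImmersion (loc k) := IsOpenImmersion.of_isLocalization (Polynomial.X : Polynomial k)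

/-- Polynomials in one variable. -/
noncomputable def eqv : MvPolynomial (Fin 1) k ≃ₐ[k] Polynomial k := MvPolynomial.uniqueAlgEquiv k (Fin 1)

theorem eqv_C (a : k) : eqv k (MvPolynomial.C a) = Polynomial.C a := (eqv k).commutes a

theorem eqv_X : eqv k (MvPolynomial.X 0) = Polynomial.X := by
  simp [eqv, MvPolynomial.uniqueAlgEquiv]

/-- The identification of the two models of the line. -/
noncomputable def eqs : Spec (CommRingCat.of (Polynomial k)) ⟶ Spec (CommRingCat.of (MvPolynomial (Fin 1) k)) :=
  Spec.map (CommRingCat.ofHom (eqv k).toRingEquiv.toRingHom)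

instance : IsIso (eqs k) := by
  have : IsIso (CommRingCat.ofHom (eqv k).toRingEquiv.toRingHom) :=
    (ConcreteCategory.isIso_iff_bijective _).2 (eqv k).bijective
  unfold eqs
  infer_instance

/-- The punctured line in the projective line. -/
noncomputable def emb : Spec (CommRingCat.of (Localization.Away (Polynomial.X : Polynomial k))) ⟶
    CohB1.ProjSpace 1 k :=
  loc k ≫ eqs k ≫ Sga5.ProjSmooth.chart 1 k 0

instance : IsOpenImmersion (emb k) :=
  inferInstanceAs (IsOpenImmersion (loc k ≫ eqs k ≫ Sga5.ProjSmooth.chart 1 k 0))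

theorem emb_toSpec : emb k ≫ CohB1.ProjSpace.toSpec 1 k =
    Spec.map (CommRingCat.ofHom (algebraMap k (Localization.Away (Polynomial.X : Polynomial k)))) := by
  rw [emb, Category.assoc, Category.assoc, Sga5.ProjSmooth.chart_toSpec, loc, eqs, ← Spec.map_comp,
    ← Spec.map_comp]
  congr 1
  apply CommRingCat.hom_ext
  ext a
  change algebraMap (Polynomial k) (Localization.Away (Polynomial.X : Polynomial k))
    (eqv k (MvPolynomial.C a)) = _
  rw [eqv_C]
  rfl

theorem P_zero_not_mem : P 0 (0 : k) ∉ Set.range (emb k) := by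
  rintro ⟨z, hz⟩
  rw [chart_point] at hz
  have h1 : Sga5.ProjSmooth.chart 1 k 0 (eqs k (loc k z)) = Sga5.ProjSmooth.chart 1 k 0
      (Spec.map (CommRingCat.ofHom (MvPolynomial.eval (fun _ : Fin 1 => (0 : k)))) default) := by
    rw [← hz, emb, Scheme.Hom.comp_apply, Scheme.Hom.comp_apply]
  have h2 := (Sga5.ProjSmooth.chart 1 k 0).isOpenEmbedding.injective h1
  have h0 : (default : Spec (CommRingCat.of k)) = (⊥ : PrimeSpectrum k) := Subsingleton.elim _ _
  have h3 : (MvPolynomial.X 0 : MvPolynomial (Fin 1) k) ∈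
      (PrimeSpectrum.comap (MvPolynomial.eval (fun _ : Fin 1 => (0 : k)))
        (default : Spec (CommRingCat.of k))).asIdeal := by
    rw [h0]
    simp [PrimeSpectrum.comap]
  have h4 : (MvPolynomial.X 0 : MvPolynomial (Fin 1) k) ∈
      (eqs k (loc k z) : PrimeSpectrum (MvPolynomial (Fin 1) k)).asIdeal := by
    rw [h2]; exact h3
  have h5 : algebraMap (Polynomial k) (Localization.Away (Polynomial.X : Polynomial k))
      (eqv k (MvPolynomial.X 0)) ∈ (z : PrimeSpectrum (Localization.Away (Polynomial.X : Polynomial k))).asIdeal := h4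
  rw [eqv_X] at h5
  exact z.isPrime.ne_top (Ideal.eq_top_of_isUnit_mem _ h5
    (IsLocalization.Away.algebraMap_isUnit (Polynomial.X : Polynomial k)))

theorem P_one_not_mem : P 1 (0 : k) ∉ Set.range (emb k) := by
  rintro ⟨z, hz⟩
  have h0 : P 1 (0 : k) ∈ LefPen.chart 1 k 0 := by
    have h1 : P 1 (0 : k) ∈ (Sga5.ProjSmooth.chart 1 k 0).opensRange := by
      rw [← hz, emb]
      exact ⟨eqs k (loc k z), rfl⟩
    rw [Sga5.ProjSmooth.opensRange_chart] at h1
    exact h1
  have h3 : P 1 (0 : k) = Sga5.ProjSmooth.chart 1 k 1 _ := chart_point 1 (0 : k)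
  rw [h3] at h0
  have h4 : Spec.map (CommRingCat.ofHom (MvPolynomial.eval (fun _ : Fin 1 => (0 : k)))) default ∈
      (Sga5.ProjSmooth.chart 1 k 1) ⁻¹ᵁ (LefPen.chart 1 k 0) := h0
  rw [chart_preimage 1 0 (by decide)] at h4
  have h0 : (default : Spec (CommRingCat.of k)) = (⊥ : PrimeSpectrum k) := Subsingleton.elim _ _
  have h5 : (MvPolynomial.X 0 : MvPolynomial (Fin 1) k) ∉
      (PrimeSpectrum.comap (MvPolynomial.eval (fun _ : Fin 1 => (0 : k)))
        (default : Spec (CommRingCat.of k))).asIdeal := h4
  rw [h0] at h5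
  apply h5
  simp [PrimeSpectrum.comap]

theorem mem_range_of_ne (c : k) (hc : c ≠ 0) : P 0 c ∈ Set.range (emb k) := by
  rw [chart_point]
  let ψ : Localization.Away (Polynomial.X : Polynomial k) →+* k :=
    IsLocalization.Away.lift (Polynomial.X : Polynomial k)
      (g := Polynomial.evalRingHom c) (IsUnit.mk0 _ (by simpa using hc))
  refine ⟨Spec.map (CommRingCat.ofHom ψ) default, ?_⟩
  have h1 : Spec.map (CommRingCat.ofHom ψ) ≫ loc k ≫ eqs k =
      Spec.map (CommRingCat.ofHom (MvPolynomial.eval (fun _ : Fin 1 => c))) := by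
    rw [loc, eqs, ← Spec.map_comp, ← Spec.map_comp]
    congr 1
    apply CommRingCat.hom_ext
    apply MvPolynomial.ringHom_ext
    · intro a
      change ψ (algebraMap _ _ (eqv k (MvPolynomial.C a))) = _
      rw [eqv_C]
      refine (IsLocalization.Away.lift_eq (Polynomial.X : Polynomial k) _ _).trans ?_
      simp
    · intro j
      change ψ (algebraMap _ _ (eqv k (MvPolynomial.X j))) = _
      have hj : j = 0 := Subsingleton.elim _ _
      rw [hj, eqv_X]
      refine (IsLocalization.Away.lift_eq (Polynomial.X : Polynomial k) _ _).trans ?_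
      simp
  rw [← h1]
  simp only [emb, Scheme.Hom.comp_apply]

theorem range_emb [IsAlgClosed k] : Set.range (emb k) = {P 0 (0 : k), P 1 (0 : k)}ᶜ := by
  ext x
  constructor
  · intro hx h
    rcases h with h | h
    · exact P_zero_not_mem k (h ▸ hx)
    · exact P_one_not_mem k (Set.mem_singleton_iff.1 h ▸ hx)
  · intro hx
    rcases point_cases x with h | h | ⟨c, h⟩
    · have hne : Nonempty (Spec (CommRingCat.of (Localization.Away (Polynomial.X : Polynomial k)))) := by
        have : IsDomain (Localization.Away (Polynomial.X : Polynomial k)) :=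
          IsLocalization.isDomain_localization (powers_le_nonZeroDivisors_of_noZeroDivisors Polynomial.X_ne_zero)
        exact inferInstanceAs (Nonempty (PrimeSpectrum (Localization.Away (Polynomial.X : Polynomial k))))
      obtain ⟨z⟩ := hne
      have h1 : Sga5.ProjConn.genPt 1 k ⤳ emb k z :=
        Sga4h.BidGeoP1.genPt_specializes k 1 _
      rw [h]
      exact h1.mem_open (emb k).opensRange.2 ⟨z, rfl⟩
    · exact absurd (Or.inr h) hx
    · have hc : c ≠ 0 := by
        rintro rfl
        exact hx (Or.inl h)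
      rw [h]
      exact mem_range_of_ne k c hc

end P1

/-- The complement of two distinct closed points of a smooth proper curve of genus zero. -/
theorem exists_gm (k : Type u) [Field k] [IsAlgClosed k] (C : Scheme.{u}) [C.Over (Spec (CommRingCat.of k))]
    [IsProper (C ↘ (Spec (CommRingCat.of k)))] [Smooth (C ↘ (Spec (CommRingCat.of k)))] [IsIntegral C]
    (hdimC : topologicalKrullDim C = 1) (hC0 : Curv2.genus k C = 0) (p q : C)
    (hp : IsClosed ({p} : Set C)) (hq : IsClosed ({q} : Set C)) (hpq : p ≠ q) :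
    ∃ u : Spec (CommRingCat.of (Localization.Away (Polynomial.X : Polynomial k))) ⟶ C,
      IsOpenImmersion u ∧ Set.range u = {p, q}ᶜ ∧
      u ≫ (C ↘ Spec (CommRingCat.of k)) =
        Spec.map (CommRingCat.ofHom (algebraMap k (Localization.Away (Polynomial.X : Polynomial k)))) := by
  have hgi : GeometricallyIntegral (C ↘ (Spec (CommRingCat.of k))) :=
    K407.PicProd.geometricallyIntegral _
  obtain ⟨e, he⟩ := S7834.result k C hdimC hC0
  let s := pointOfClosedPoint (C ↘ (Spec (CommRingCat.of k))) p hp
  let t := pointOfClosedPoint (C ↘ (Spec (CommRingCat.of k))) q hq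
  have hs : (s ≫ e.hom) ≫ CohB1.ProjSpace.toSpec 1 k = 𝟙 _ := by
    rw [Category.assoc, he]; exact pointOfClosedPoint_comp _ _ _
  have ht : (t ≫ e.hom) ≫ CohB1.ProjSpace.toSpec 1 k = 𝟙 _ := by
    rw [Category.assoc, he]; exact pointOfClosedPoint_comp _ _ _
  have hst : s ≫ e.hom ≠ t ≫ e.hom := by
    intro h
    have h1 : s = t := (cancel_mono e.hom).1 h
    apply hpq
    have h2 := pointOfClosedPoint_apply (C ↘ (Spec (CommRingCat.of k))) p hp default
    have h3 := pointOfClosedPoint_apply (C ↘ (Spec (CommRingCat.of k))) q hq default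
    rw [← h2, ← h3]
    exact congrArg (fun f : Spec (CommRingCat.of k) ⟶ C => f default) h1
  obtain ⟨a, ha, ha0, ha1⟩ := K995.P1Pts.exists_move_two _ _ hs ht hst
  have hne : pt (k := k) 0 0 ≠ pt 1 0 := by
    intro h
    exact Pinf_ne (0 : k) (congrArg (fun f : Spec (CommRingCat.of k) ⟶ CohB1.ProjSpace 1 k => f default) h).symm
  obtain ⟨b, hb, hb0, hb1⟩ := K995.P1Pts.exists_move_two _ _ (pt_toSpec 0 (0 : k)) (pt_toSpec 1 (0 : k)) hne
  let E : CohB1.ProjSpace 1 k ≅ C := b ≪≫ a.symm ≪≫ e.symm
  have hE : E.hom ≫ (C ↘ (Spec (CommRingCat.of k))) = CohB1.ProjSpace.toSpec 1 k := by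
    simp only [E, Iso.trans_hom, Iso.symm_hom, Category.assoc]
    rw [Iso.inv_comp_eq e |>.2 he.symm, Iso.inv_comp_eq a |>.2 ha.symm, hb]
  have hE0 : pt 0 (0 : k) ≫ E.hom = s := by
    simp only [E, Iso.trans_hom, Iso.symm_hom]
    rw [← Category.assoc, hb0, ← ha0]
    simp
  have hE1 : pt 1 (0 : k) ≫ E.hom = t := by
    simp only [E, Iso.trans_hom, Iso.symm_hom]
    rw [← Category.assoc, hb1, ← ha1]
    simp
  have hP0 : E.hom (P 0 (0 : k)) = p := by
    have h := congrArg (fun f : Spec (CommRingCat.of k) ⟶ C => f default) hE0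
    exact h.trans (pointOfClosedPoint_apply (C ↘ (Spec (CommRingCat.of k))) p hp default)
  have hP1 : E.hom (P 1 (0 : k)) = q := by
    have h := congrArg (fun f : Spec (CommRingCat.of k) ⟶ C => f default) hE1
    exact h.trans (pointOfClosedPoint_apply (C ↘ (Spec (CommRingCat.of k))) q hq default)
  refine ⟨emb k ≫ E.hom, inferInstance, ?_, ?_⟩
  · have hbij : Function.Bijective E.hom := (Scheme.Hom.homeomorph E.hom).bijective
    have h1 : Set.range (emb k ≫ E.hom) = E.hom '' Set.range (emb k) := by
      rw [← Set.range_comp]; rfl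
    rw [h1, range_emb, Set.image_compl_eq hbij, Set.image_pair, hP0, hP1]
  · rw [Category.assoc, hE, emb_toSpec]

end K741.GmOpen
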